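import Groth.Agent.H6KB.Model
import Groth.Agent.H6KP.Span
import Groth.Agent.EtLC12.AssocUnit
import Groth.Agent.KFlatLib.Scheme.GlueD
import Groth.Agent.ConsPropLib.FibreLocFree

/-!
# Projective bundles over trivialising affine opens
-/

set_option autoImplicit false
set_option linter.style.haveILetI false
set_option linter.unusedSectionVars false
set_option backward.isDefEq.respectTransparency false
set_option backward.isDefEq.respectTransparency.types false
set_option maxHeartbeats 800000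

universe u

open CategoryTheory CategoryTheory.Limits AlgebraicGeometry TopologicalSpace Opposite

attribute [-instance] CategoryTheory.catToReflQuiver

noncomputable section

namespace Groth.Agent.H6KB

open Groth.Agent Groth.Agent.H23.PicMul
open Groth.Agent.KRRReg (gfst O)

section OpenImm

variable {Y Z : Scheme.{u}} (g : Y ⟶ Z) [IsOpenImmersion g]

theorem bijective_pullSec_open (M : Z.Modules) {O : Z.Opens} (hO : O ≤ g.opensRange) {W : Y.Opens}
    (hW : W = g ⁻¹ᵁ O) : Function.Bijective (QCoh.pullSec g M hW.le) := by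
  subst hW
  haveI : IsIso (homOfLE (le_refl (g ⁻¹ᵁ O))).op :=
    ⟨(homOfLE le_rfl).op, Subsingleton.elim _ _, Subsingleton.elim _ _⟩
  exact (ConcreteCategory.bijective_of_isIso
    (((Scheme.Modules.pullback g).obj M).presheaf.map (homOfLE (le_refl (g ⁻¹ᵁ O))).op)).comp
      (EtLC12.AssocUnit.bijective_usec_of_isOpenImmersion g M O hO)

theorem preservesFiniteLimits_pullback : PreservesFiniteLimits (Scheme.Modules.pullback g) :=
  preservesFiniteLimits_of_natIso (Scheme.Modules.restrictFunctorIsoPullback g)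

end OpenImm

section Square

variable {A B B' Z : Scheme.{u}} (a : A ⟶ B) (b : B ⟶ Z) (a' : A ⟶ B') (b' : B' ⟶ Z) (h : a ≫ b = a' ≫ b')

/-- The comparison of pull-backs around a commutative square. -/
def sqIso (N : Z.Modules) : (Scheme.Modules.pullback a).obj ((Scheme.Modules.pullback b).obj N) ≅
    (Scheme.Modules.pullback a').obj ((Scheme.Modules.pullback b').obj N) :=
  (Scheme.Modules.pullbackComp a b).app N ≪≫
    (Scheme.Modules.pullbackCongr h).app N ≪≫ ((Scheme.Modules.pullbackComp a' b').app N).symm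

theorem sqIso_pullSec (N : Z.Modules) {W : A.Opens} {U : B.Opens} {U' : B'.Opens} {O : Z.Opens}
    (h₁ : U ≤ b ⁻¹ᵁ O) (h₂ : W ≤ a ⁻¹ᵁ U) (h₁' : U' ≤ b' ⁻¹ᵁ O) (h₂' : W ≤ a' ⁻¹ᵁ U') (y : Γ(N, O)) :
    (sqIso a b a' b' h N).hom.app W (QCoh.pullSec a _ h₂ (QCoh.pullSec b N h₁ y)) =
      QCoh.pullSec a' _ h₂' (QCoh.pullSec b' N h₁' y) := by
  refine (ConcreteCategory.bijective_of_isIso (((Scheme.Modules.pullbackComp a' b').hom.app N).app W)).1 ?_
  refine Eq.trans ?_ (ExistEasy.pullSec_comp a' b' N h₁' h₂' y).symm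
  refine (congr(($((Scheme.Modules.pullbackComp a' b').inv_hom_id_app N)).app W _)).trans ?_
  exact (congrArg (((Scheme.Modules.pullbackCongr h).hom.app N).app W)
    (ExistEasy.pullSec_comp a b N h₁ h₂ y)).trans (ExistEasy.pullSec_congr h N _ y)

end Square

theorem sqIso_natural {A B B' Z : Scheme.{u}} (a : A ⟶ B) (b : B ⟶ Z) (a' : A ⟶ B') (b' : B' ⟶ Z)
    (h : a ≫ b = a' ≫ b') {N M : Z.Modules} (g : N ⟶ M) :
    (Scheme.Modules.pullback a).map ((Scheme.Modules.pullback b).map g) ≫ (sqIso a b a' b' h M).hom =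
      (sqIso a b a' b' h N).hom ≫ (Scheme.Modules.pullback a').map ((Scheme.Modules.pullback b').map g) := by
  show _ ≫ (_ ≫ _ ≫ _) = (_ ≫ _ ≫ _) ≫ _
  simp only [Iso.app_hom, Iso.symm_hom, Iso.app_inv, Category.assoc]
  rw [← Category.assoc]
  erw [(Scheme.Modules.pullbackComp a b).hom.naturality g]
  rw [Category.assoc]
  congr 1
  rw [← Category.assoc, (Scheme.Modules.pullbackCongr h).hom.naturality g, Category.assoc]
  congr 1
  exact (Scheme.Modules.pullbackComp a' b').inv.naturality g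

variable {T P : Scheme.{u}} {n : ℕ}

/-- A trivialisation of a projective bundle over an affine open. -/
structure Triv (π : P ⟶ T) (O1 : P.Modules) (n : ℕ) where
  V : T.Opens
  aff : IsAffineOpen V
  f : KRR.PY n V.toScheme ⟶ P
  sq : IsPullback f (KRR.pr n V.toScheme) π V.ι
  triv : Nonempty ((Scheme.Modules.pullback f).obj O1 ≅ Twist.twistOver n V.toScheme 1)

/-- Trivialisations exist around every point. -/
def HasTriv (π : P ⟶ T) (O1 : P.Modules) (n : ℕ) : Prop := ∀ t : T, ∃ τ : Triv π O1 n, t ∈ τ.V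

theorem hasTriv_of_isProjBundle {π : P ⟶ T} {E : T.Modules} {O1 : P.Modules}
    {q : (Scheme.Modules.pullback π).obj E ⟶ O1} (hP : KRR.IsProjBundle π E O1 q)
    (hE : FlatMod.IsFinLocFreeOfRank (n + 1) E) : HasTriv π O1 n := by
  intro t
  obtain ⟨U, ht, ⟨e⟩⟩ := hE t
  obtain ⟨V, hV, htV, hVU⟩ := exists_isAffineOpen_mem_and_subset ht
  let j : V.toScheme ⟶ U.toScheme := T.homOfLE hVU
  let ε : (Scheme.Modules.pullback V.ι).obj E ≅ FlatMod.freeMod V.toScheme (n + 1) :=
    (Scheme.Modules.pullbackCongr (T.homOfLE_ι hVU).symm).app E ≪≫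
      ((Scheme.Modules.pullbackComp j U.ι).app E).symm ≪≫
      (Scheme.Modules.pullback j).mapIso (((Scheme.Modules.restrictFunctorIsoPullback U.ι).app E).symm ≪≫ e) ≪≫
      KFlatLib.pullFreeIso j (n + 1)
  obtain ⟨q', hq'⟩ := exists_isProjBundle_PY n V.toScheme
  obtain ⟨f, hf, hO⟩ := exists_isPullback V.ι _ ε _ hP hq'
  exact ⟨⟨V, hV, f, hf, hO⟩, htV⟩

variable {π : P ⟶ T} {O1 : P.Modules}

namespace Triv

variable (τ : Triv π O1 n)

instance : IsOpenImmersion τ.f := MorphismProperty.of_isPullback τ.sq.flip inferInstance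

instance : IsAffine τ.V.toScheme := τ.aff

theorem compactSpace : CompactSpace τ.V.toScheme := inferInstance

theorem mem_range {x : P} (hx : π x ∈ τ.V) : x ∈ Set.range τ.f := by
  obtain ⟨z, hz, -⟩ := Scheme.Pullback.exists_preimage_pullback (f := π) (g := τ.V.ι) x ⟨π x, hx⟩ rfl
  exact ⟨τ.sq.isoPullback.inv z, by rw [← Scheme.Hom.comp_apply, IsPullback.isoPullback_inv_fst]; exact hz⟩

/-- Restriction to the trivialised bundle. -/
abbrev res : P.Modules ⥤ (KRR.PY n τ.V.toScheme).Modules := Scheme.Modules.pullback τ.f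

theorem res_vb {F : P.Modules} (hF : FlatMod.IsFinLocFree F) : FlatMod.IsFinLocFree (τ.res.obj F) :=
  KFlatLib.isFinLocFree_pullback _ hF

theorem res_qcoh {F : P.Modules} (hF : Coh.IsQCoh F) : Coh.IsQCoh (τ.res.obj F) := QCoh.isQCoh_pullback _ hF

theorem shortExact_res {S : ShortComplex P.Modules} (hS : S.ShortExact) : (S.map τ.res).ShortExact := by
  haveI : PreservesFiniteColimits τ.res := inferInstance
  haveI : PreservesFiniteLimits τ.res := CohBC.pullback_preservesFiniteLimits_of_isOpenImmersion τ.f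
  exact hS.map_of_exact τ.res

/-- Pullbacks from the base restrict to pullbacks from the base. -/
def pullIso : Scheme.Modules.pullback π ⋙ τ.res ≅
    Scheme.Modules.pullback τ.V.ι ⋙ Scheme.Modules.pullback (KRR.pr n τ.V.toScheme) :=
  Scheme.Modules.pullbackComp τ.f π ≪≫ Scheme.Modules.pullbackCongr τ.sq.w ≪≫
    (Scheme.Modules.pullbackComp (KRR.pr n τ.V.toScheme) τ.V.ι).symm

theorem flat_ι : Flat τ.V.ι := inferInstance

theorem le_range : π ⁻¹ᵁ τ.V ≤ τ.f.opensRange := fun _ hy => τ.mem_range hy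

theorem preimage_eq (U : τ.V.toScheme.Opens) :
    KRR.pr n τ.V.toScheme ⁻¹ᵁ U = τ.f ⁻¹ᵁ (π ⁻¹ᵁ (τ.V.ι ''ᵁ U)) := by
  rw [← Scheme.Hom.comp_preimage, τ.sq.w, Scheme.Hom.comp_preimage, Scheme.Hom.preimage_image_eq]

/-- The comparison of the two pull-backs of a module on the base. -/
def α (N : T.Modules) : (Scheme.Modules.pullback (KRR.pr n τ.V.toScheme)).obj ((Scheme.Modules.pullback τ.V.ι).obj N) ≅
    (Scheme.Modules.pullback τ.f).obj ((Scheme.Modules.pullback π).obj N) :=
  sqIso (KRR.pr n τ.V.toScheme) τ.V.ι τ.f π τ.sq.w.symm N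

theorem α_pullSec (N : T.Modules) (U : τ.V.toScheme.Opens) (y : Γ(N, τ.V.ι ''ᵁ U)) :
    (τ.α N).hom.app (KRR.pr n τ.V.toScheme ⁻¹ᵁ U)
        (QCoh.pullSec (KRR.pr n τ.V.toScheme) ((Scheme.Modules.pullback τ.V.ι).obj N) le_rfl
          (QCoh.pullSec τ.V.ι N (τ.V.ι.preimage_image_eq U).ge y)) =
      QCoh.pullSec τ.f ((Scheme.Modules.pullback π).obj N) (τ.preimage_eq U).le
        (QCoh.pullSec π N (le_refl (π ⁻¹ᵁ (τ.V.ι ''ᵁ U))) y) :=
  sqIso_pullSec _ _ _ _ _ N _ _ _ _ y

/-- The pull-back of the counit, moved to the chart. -/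
def counitHom (F : P.Modules) : (Scheme.Modules.pullback (KRR.pr n τ.V.toScheme)).obj
    ((Scheme.Modules.pullback τ.V.ι).obj ((Scheme.Modules.pushforward π).obj F)) ⟶
      (Scheme.Modules.pullback τ.f).obj F :=
  (τ.α _).hom ≫ (Scheme.Modules.pullback τ.f).map ((Scheme.Modules.pullbackPushforwardAdjunction π).counit.app F)

/-- Base change to a chart. -/
def β (F : P.Modules) : (Scheme.Modules.pullback τ.V.ι).obj ((Scheme.Modules.pushforward π).obj F) ⟶
    (Scheme.Modules.pushforward (KRR.pr n τ.V.toScheme)).obj ((Scheme.Modules.pullback τ.f).obj F) :=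
  (Scheme.Modules.pullbackPushforwardAdjunction (KRR.pr n τ.V.toScheme)).homEquiv _ _ (τ.counitHom F)

theorem β_pullSec (F : P.Modules) (U : τ.V.toScheme.Opens) (y : Γ(F, π ⁻¹ᵁ (τ.V.ι ''ᵁ U))) :
    (τ.β F).app U (QCoh.pullSec τ.V.ι ((Scheme.Modules.pushforward π).obj F) (τ.V.ι.preimage_image_eq U).ge y) =
      QCoh.pullSec τ.f F (τ.preimage_eq U).le y := by
  rw [β, Adjunction.homEquiv_unit]
  refine Eq.trans (congrArg ((τ.counitHom F).app (KRR.pr n τ.V.toScheme ⁻¹ᵁ U)) (QCoh.map_id'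
    (M := (Scheme.Modules.pullback (KRR.pr n τ.V.toScheme)).obj
      ((Scheme.Modules.pullback τ.V.ι).obj ((Scheme.Modules.pushforward π).obj F))) (homOfLE le_rfl) _).symm) ?_
  show ((Scheme.Modules.pullback τ.f).map _).app _ ((τ.α _).hom.app _ _) = _
  refine (congrArg _ (τ.α_pullSec ((Scheme.Modules.pushforward π).obj F) U y)).trans ?_
  rw [ExistEasy.pullSec_natural]
  refine congrArg (QCoh.pullSec τ.f F _) ?_
  refine (congrArg (((Scheme.Modules.pullbackPushforwardAdjunction π).counit.app F).app _)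
    (QCoh.map_id' (M := (Scheme.Modules.pullback π).obj ((Scheme.Modules.pushforward π).obj F)) _ _)).trans ?_
  exact congr(($((Scheme.Modules.pullbackPushforwardAdjunction π).right_triangle_components F)).app
    (τ.V.ι ''ᵁ U) y)

instance isIso_β (F : P.Modules) : IsIso (τ.β F) := by
  refine Scheme.Modules.Hom.isIso_iff_isIso_app.2 fun U => (ConcreteCategory.isIso_iff_bijective _).2 ?_
  have h1 := bijective_pullSec_open τ.V.ι ((Scheme.Modules.pushforward π).obj F) (O := τ.V.ι ''ᵁ U)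
    (τ.V.ι.image_le_opensRange U) (τ.V.ι.preimage_image_eq U).symm
  have hV : τ.V.ι ''ᵁ U ≤ τ.V := (τ.V.ι.image_le_opensRange U).trans (le_of_eq (Scheme.Opens.opensRange_ι _))
  have h2 := bijective_pullSec_open τ.f F (O := π ⁻¹ᵁ (τ.V.ι ''ᵁ U))
    ((π.preimage_mono hV).trans τ.le_range) (τ.preimage_eq U)
  exact ⟨fun a b hab => by
      obtain ⟨a, rfl⟩ := h1.2 a
      obtain ⟨b, rfl⟩ := h1.2 b
      rw [τ.β_pullSec, τ.β_pullSec] at hab
      rw [h2.1 hab],
    fun z => by
      obtain ⟨y, rfl⟩ := h2.2 z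
      exact ⟨_, τ.β_pullSec F U y⟩⟩

/-- Direct images restrict to charts. -/
def pushIso (F : P.Modules) : (Scheme.Modules.pullback τ.V.ι).obj ((Scheme.Modules.pushforward π).obj F) ≅
    (Scheme.Modules.pushforward (KRR.pr n τ.V.toScheme)).obj ((Scheme.Modules.pullback τ.f).obj F) :=
  asIso (τ.β F)

theorem pullback_counit (F : P.Modules) :
    (Scheme.Modules.pullback τ.f).map ((Scheme.Modules.pullbackPushforwardAdjunction π).counit.app F) =
      ((τ.α _).symm ≪≫ (Scheme.Modules.pullback (KRR.pr n τ.V.toScheme)).mapIso (τ.pushIso F)).hom ≫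
        (Scheme.Modules.pullbackPushforwardAdjunction (KRR.pr n τ.V.toScheme)).counit.app _ := by
  have h : (Scheme.Modules.pullback (KRR.pr n τ.V.toScheme)).map (τ.β F) ≫
      (Scheme.Modules.pullbackPushforwardAdjunction (KRR.pr n τ.V.toScheme)).counit.app _ = τ.counitHom F := by
    refine ((Scheme.Modules.pullbackPushforwardAdjunction (KRR.pr n τ.V.toScheme)).homEquiv_counit _ _ _).symm.trans ?_
    exact Equiv.symm_apply_apply _ _
  show _ = ((τ.α _).inv ≫ (Scheme.Modules.pullback (KRR.pr n τ.V.toScheme)).map (τ.β F)) ≫ _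
  rw [Category.assoc, h, counitHom, Iso.inv_hom_id_assoc]

/-- The kernel of the counit restricts to charts. -/
def syzIso (F : P.Modules) :
    (Scheme.Modules.pullback τ.f).obj
        (kernel ((Scheme.Modules.pullbackPushforwardAdjunction π).counit.app F)) ≅
      KRRReg.syz (n := n) ((Scheme.Modules.pullback τ.f).obj F) :=
  haveI := preservesFiniteLimits_pullback τ.f
  PreservesKernel.iso (Scheme.Modules.pullback τ.f) _ ≪≫
    kernel.mapIso _ _ ((τ.α _).symm ≪≫ (Scheme.Modules.pullback (KRR.pr n τ.V.toScheme)).mapIso (τ.pushIso F))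
      (Iso.refl _) (by rw [Iso.refl_hom, Category.comp_id]; exact τ.pullback_counit F)

theorem β_natural {F G : P.Modules} (g : F ⟶ G) :
    (Scheme.Modules.pullback τ.V.ι).map ((Scheme.Modules.pushforward π).map g) ≫ τ.β G =
      τ.β F ≫ (Scheme.Modules.pushforward (KRR.pr n τ.V.toScheme)).map (τ.res.map g) := by
  rw [Triv.β, Triv.β, ← Adjunction.homEquiv_naturality_left, ← Adjunction.homEquiv_naturality_right,
    Triv.counitHom, Triv.counitHom, Triv.α, Triv.α, ← Category.assoc, sqIso_natural, Category.assoc,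
    Category.assoc, ← Functor.map_comp, ← Functor.map_comp]
  refine congrArg (fun t => (Scheme.Modules.pullbackPushforwardAdjunction (KRR.pr n τ.V.toScheme)).homEquiv _ _ (_ ≫ (Scheme.Modules.pullback τ.f).map t)) ?_
  exact (Scheme.Modules.pullbackPushforwardAdjunction π).counit.naturality g

end Triv

variable (hc : HasTriv π O1 n)

include hc in
theorem cover_P (x : P) : ∃ τ : Triv π O1 n, x ∈ Set.range τ.f :=
  let ⟨τ, hτ⟩ := hc (π x)
  ⟨τ, τ.mem_range hτ⟩

include hc in
theorem cover_T (t : T) : ∃ τ : Triv π O1 n, t ∈ Set.range τ.V.ι :=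
  let ⟨τ, hτ⟩ := hc t
  ⟨τ, ⟨t, hτ⟩, rfl⟩

/-- Local vanishing of a map. -/
theorem eq_zero_of_pullback {ι : Type*} {X : Scheme.{u}} {Y : ι → Scheme.{u}} (j : ∀ i, Y i ⟶ X)
    [∀ i, IsOpenImmersion (j i)] (hcov : ∀ x : X, ∃ i, x ∈ Set.range (j i)) {A B : X.Modules} (f : A ⟶ B)
    (h : ∀ i, (Scheme.Modules.pullback (j i)).map f = 0) : f = 0 := by
  refine Scheme.Modules.hom_ext _ _ fun W => ?_
  ext s
  refine (?_ : f.app W s = 0).trans rfl
  refine QCoh.eq_zero_of_locally W _ fun q hq => ?_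
  obtain ⟨i, q', rfl⟩ := hcov q
  refine ⟨j i ''ᵁ (j i ⁻¹ᵁ W), homOfLE ((j i).image_preimage_le W), ⟨q', hq, rfl⟩, ?_⟩
  rw [← QCoh.map_app_comm]
  have h' : (Scheme.Modules.restrictFunctor (j i)).map f = 0 := by
    have := (Scheme.Modules.restrictFunctorIsoPullback (j i)).hom.naturality f
    rw [h i, comp_zero] at this
    rw [← cancel_mono ((Scheme.Modules.restrictFunctorIsoPullback (j i)).hom.app B), this, zero_comp]
  exact congr(($h').app (j i ⁻¹ᵁ W) _)

theorem epi_of_pullback {ι : Type*} {X : Scheme.{u}} {Y : ι → Scheme.{u}} (j : ∀ i, Y i ⟶ X)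
    [∀ i, IsOpenImmersion (j i)] (hcov : ∀ x : X, ∃ i, x ∈ Set.range (j i)) {A B : X.Modules} (f : A ⟶ B)
    (h : ∀ i, Epi ((Scheme.Modules.pullback (j i)).map f)) : Epi f :=
  Preadditive.epi_of_cancel_zero f fun {Z} g hg => eq_zero_of_pullback j hcov g fun i => by
    haveI := h i
    rw [← cancel_epi ((Scheme.Modules.pullback (j i)).map f), comp_zero, ← Functor.map_comp, hg, Functor.map_zero]

theorem isZero_of_pullback {ι : Type*} {X : Scheme.{u}} {Y : ι → Scheme.{u}} (j : ∀ i, Y i ⟶ X)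
    [∀ i, IsOpenImmersion (j i)] (hcov : ∀ x : X, ∃ i, x ∈ Set.range (j i)) {A : X.Modules}
    (h : ∀ i, IsZero ((Scheme.Modules.pullback (j i)).obj A)) : IsZero A :=
  (IsZero.iff_id_eq_zero A).2 (eq_zero_of_pullback j hcov _ fun i => (h i).eq_of_src _ _)

theorem isFinLocFree_of_pullback {ι : Type*} {X : Scheme.{u}} {Y : ι → Scheme.{u}} (j : ∀ i, Y i ⟶ X)
    [∀ i, IsOpenImmersion (j i)] (hcov : ∀ x : X, ∃ i, x ∈ Set.range (j i)) {A : X.Modules}
    (h : ∀ i, FlatMod.IsFinLocFree ((Scheme.Modules.pullback (j i)).obj A)) : FlatMod.IsFinLocFree A :=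
  ConsPropLib.isFinLocFree_of_cover j hcov fun i =>
    H23.PullPush.isFinLocFree_of_iso ((Scheme.Modules.restrictFunctorIsoPullback (j i)).app A).symm (h i)

end Groth.Agent.H6KB
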