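import Groth.Agent.H6KB.Free
import Mathlib.RingTheory.PowerSeries.WellKnown

/-!
# `K₀` of a projective bundle over a quasi-compact base is free on the powers of `O(-1)`
-/

set_option autoImplicit false
set_option linter.style.haveILetI false
set_option linter.unusedSectionVars false
set_option backward.isDefEq.respectTransparency false
set_option backward.isDefEq.respectTransparency.types false
set_option maxHeartbeats 1000000

universe v w u

open CategoryTheory CategoryTheory.Limits AlgebraicGeometry TopologicalSpace Opposite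

attribute [-instance] CategoryTheory.catToReflQuiver

noncomputable section

namespace Groth.Agent.H6KB

open Groth.Agent Groth.Agent.H23.PicMul KRRReg

theorem coeff_one_sub_X_pow : ∀ n : ℕ, PowerSeries.coeff n ((1 - PowerSeries.X : PowerSeries ℤ) ^ n) = (-1) ^ n ∧
    ∀ m, n < m → PowerSeries.coeff m ((1 - PowerSeries.X : PowerSeries ℤ) ^ n) = 0
  | 0 => ⟨by simp, fun m hm => by
      obtain ⟨k, rfl⟩ := Nat.exists_eq_add_of_le' hm
      simp⟩
  | n + 1 => by
    obtain ⟨h1, h2⟩ := coeff_one_sub_X_pow n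
    constructor
    · rw [pow_succ, mul_sub, mul_one, map_sub, PowerSeries.coeff_succ_mul_X, h1, h2 _ (Nat.lt_succ_self n), pow_succ]
      ring
    · intro m hm
      obtain ⟨k, rfl⟩ : ∃ k, m = k + 1 := ⟨m - 1, by omega⟩
      rw [pow_succ, mul_sub, mul_one, map_sub, PowerSeries.coeff_succ_mul_X, h2 _ (by omega), h2 _ (by omega), sub_zero]

/-- The recursion of the numbers `C(r + k, r)` has last coefficient one. -/
theorem last_coeff (r : ℕ) (a : ℕ → ℤ) (H : ℤ → ℤ) (hneg : ∀ k, k < 0 → H k = 0)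
    (hH : ∀ k : ℕ, H k = (Nat.choose (r + k) r : ℤ))
    (hrec : ∀ n : ℤ, 0 ≤ n → H (n + 1) = ∑ m ∈ Finset.range (r + 1), (-1 : ℤ) ^ m * a m * H (n - m)) :
    a r = 1 := by
  let h : PowerSeries ℤ := PowerSeries.mk fun n => (Nat.choose (r + n) r : ℤ)
  let B : PowerSeries ℤ :=
    1 - ∑ m ∈ Finset.range (r + 1), PowerSeries.C ((-1 : ℤ) ^ m * a m) * PowerSeries.X ^ (m + 1)
  have hc : ∀ n, PowerSeries.coeff n h = H n := fun n => by rw [PowerSeries.coeff_mk, hH]
  have hBh : B * h = 1 := by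
    refine PowerSeries.ext fun n => ?_
    rw [sub_mul, one_mul, Finset.sum_mul, map_sub, map_sum]
    simp only [mul_assoc, PowerSeries.coeff_C_mul, PowerSeries.coeff_X_pow_mul']
    rcases n with _ | k
    · rw [Finset.sum_eq_zero fun m _ => by rw [if_neg (by omega), mul_zero, mul_zero], hc, hH]
      simp
    · rw [hc, Nat.cast_succ, hrec (k : ℤ) (Int.natCast_nonneg k), PowerSeries.coeff_one, if_neg (by omega),
        ← Finset.sum_sub_distrib]
      refine Finset.sum_eq_zero fun m _ => ?_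
      by_cases hm : m + 1 ≤ k + 1
      · rw [if_pos hm, hc, show (((k + 1 - (m + 1) : ℕ)) : ℤ) = (k : ℤ) - m by omega]
        ring
      · rw [if_neg hm, hneg _ (by omega)]
        ring
  have hB : B = (1 - PowerSeries.X) ^ (r + 1) := by
    have e1 : (PowerSeries.invOneSubPow ℤ (r + 1)).val = h := PowerSeries.invOneSubPow_val_succ_eq_mk_add_choose ℤ r
    have e2 := (PowerSeries.invOneSubPow ℤ (r + 1)).val_inv
    rw [e1, PowerSeries.invOneSubPow_inv_eq_one_sub_pow] at e2
    exact left_inv_eq_right_inv hBh e2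
  have h3 := congrArg (PowerSeries.coeff (r + 1)) hB
  rw [(coeff_one_sub_X_pow (r + 1)).1, map_sub, map_sum, PowerSeries.coeff_one, if_neg (by omega),
    Finset.sum_eq_single r, PowerSeries.coeff_C_mul, PowerSeries.coeff_X_pow, if_pos rfl, pow_succ] at h3
  · rcases neg_one_pow_eq_or ℤ r with e | e <;> rw [e] at h3 <;> linarith
  · intro m _ hm
    rw [PowerSeries.coeff_C_mul, PowerSeries.coeff_X_pow, if_neg (by omega), mul_zero]
  · simp

variable {X : Scheme.{u}}

/-- The rank at a point as a ring map on a ring model. -/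
theorem exists_rankRingHom {K : Type v} [CommRing K] {φ : SGA6.Kvb X →+ K} (hφ : IsRingModel X K φ) (x : X) :
    ∃ ε : K →+* ℤ, ∀ E, FlatMod.IsFinLocFree E → ε (φ (KRR.cl X E)) = ExtPowSh.rk E x := by
  obtain ⟨r, hr⟩ := ExtPowSh.exists_rankHom x
  let e : SGA6.Kvb X ≃+ K := AddEquiv.ofBijective φ hφ.bijective
  let ε₀ : K →+ ℤ := r.comp e.symm.toAddMonoidHom
  have hε : ∀ E, FlatMod.IsFinLocFree E → ε₀ (φ (KRR.cl X E)) = ExtPowSh.rk E x := fun E hE => by
    show r (e.symm (e _)) = _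
    rw [AddEquiv.symm_apply_apply, hr E hE]
  have hgen : ∀ {f g : K →+ ℤ}, (∀ E, FlatMod.IsFinLocFree E → f (φ (KRR.cl X E)) = g (φ (KRR.cl X E))) → f = g :=
    fun {f g} h => AddMonoidHom.ext fun k => by
      obtain ⟨z, rfl⟩ := hφ.bijective.2 k
      exact DFunLike.congr_fun (KZ.K0sub_hom_ext (KRR.vbP X) (f := f.comp φ) (g := g.comp φ) h) z
  have hone : ε₀ 1 = 1 := by
    rw [← hφ.map_one, hε _ (isFinLocFree_structure X),
      ExtPowSh.rk_eq (InvEnd.isFinLocFreeOfRank_one InvX.isInvertible_structureModule), Nat.cast_one]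
  have hmul : ∀ a b, ε₀ (a * b) = ε₀ a * ε₀ b := fun a b => by
    refine DFunLike.congr_fun (hgen (f := ε₀.comp (AddMonoidHom.mulRight b))
      (g := (AddMonoidHom.mulRight (ε₀ b)).comp ε₀) fun E hE => ?_) a
    refine DFunLike.congr_fun (hgen (f := ε₀.comp (AddMonoidHom.mulLeft (φ (KRR.cl X E))))
      (g := (AddMonoidHom.mulLeft (ε₀ (φ (KRR.cl X E)))).comp ε₀) fun F hF => ?_) b
    show ε₀ (φ (KRR.cl X E) * φ (KRR.cl X F)) = ε₀ (φ (KRR.cl X E)) * ε₀ (φ (KRR.cl X F))
    rw [hφ.map_mul E F hE hF, hε _ (KFlatLib.isFinLocFree_tensor hE hF), hε E hE, hε F hF,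
      ExtPowSh.rk_tensor hE hF, Nat.cast_mul]
  exact ⟨{ ε₀ with map_one' := hone, map_mul' := hmul }, hε⟩

theorem isFinLocFreeOfRank_of_rk {M : X.Modules} {n : ℕ} (hM : FlatMod.IsFinLocFree M)
    (h : ∀ x, ExtPowSh.rk M x = n) : FlatMod.IsFinLocFreeOfRank n M := fun x => by
  obtain ⟨U, m, hx, ⟨e⟩⟩ := hM x
  obtain ⟨V, hV, hxV, hle⟩ := exists_isAffineOpen_mem_and_subset (U := U) (x := x) hx
  obtain ⟨l⟩ := QCoh.free_sections hV hle e
  obtain rfl : m = n := (QCoh.finrank_stalk_of_freeChart hV (QCoh.isQCoh_of_isFinLocFree hM) l hxV).symm.trans (h x)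
  exact ⟨U, hx, ⟨e⟩⟩

theorem isUnit_cl_invertible {K : Type v} [CommRing K] {φ : SGA6.Kvb X →+ K} (hφ : IsRingModel X K φ)
    {L : X.Modules} (hL : PicF.IsInvertible L) : IsUnit (φ (KRR.cl X L)) := by
  obtain ⟨D, hD, ⟨d⟩⟩ := H23.PicInv.exists_inverse hL
  have hv := H23.PullPush.isFinLocFree_of_isInvertible hL
  have hw := H23.PullPush.isFinLocFree_of_isInvertible hD
  refine IsUnit.of_mul_eq_one (φ (KRR.cl X D)) ?_
  rw [hφ.map_mul _ _ hv hw, ← hφ.map_one]
  exact congrArg φ (KRRReg.cl_iso d (KFlatLib.isFinLocFree_tensor hv hw))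

theorem isUnit_of_rank_one {K : Type v} [CommRing K] {φ : SGA6.Kvb X →+ K} (hφ : IsRingModel X K φ)
    {M : X.Modules} (hM : FlatMod.IsFinLocFree M) (h : ∀ x, ExtPowSh.rk M x = 1) : IsUnit (φ (KRR.cl X M)) :=
  isUnit_cl_invertible hφ (BertiniSec.isInvertible_of_rank_one (isFinLocFreeOfRank_of_rk hM h))

variable {P : Scheme.{u}} {π : P ⟶ X} {O1 : P.Modules} {r : ℕ}

theorem exists_atlas [CompactSpace X] {E : X.Modules} {q : (Scheme.Modules.pullback π).obj E ⟶ O1}
    (hP : KRR.IsProjBundle π E O1 q) (hE : FlatMod.IsFinLocFreeOfRank (r + 1) E) :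
    ∃ (ι : Type u) (_ : Finite ι) (A : ι → Triv π O1 r), ∀ x : X, ∃ i, x ∈ (A i).V := by
  choose c hc using hasTriv_of_isProjBundle hP hE
  obtain ⟨t, ht⟩ := isCompact_univ.elim_finite_subcover (fun x : ↥X => ((c x).V : Set ↥X))
    (fun x => (c x).V.isOpen) fun x _ => Set.mem_iUnion.2 ⟨x, hc x⟩
  refine ⟨t, inferInstance, fun i => c i.1, fun x => ?_⟩
  obtain ⟨i, hit, hi⟩ := Set.mem_iUnion₂.1 (ht (Set.mem_univ x))
  exact ⟨⟨i, hit⟩, hi⟩

/-- Pullback as a ring map between ring models. -/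
theorem exists_pullRingHom (f : P ⟶ X) {KX : Type v} [CommRing KX] {φX : SGA6.Kvb X →+ KX}
    (hX : IsRingModel X KX φX) {KP : Type w} [CommRing KP] {φP : SGA6.Kvb P →+ KP} (hP : IsRingModel P KP φP) :
    ∃ g : KX →+* KP, KRR.IsPull f φX φP g.toAddMonoidHom := by
  obtain ⟨g, hg, -⟩ := existsUnique_isPull f (KY := KX) φP hX.bijective
  have hext : ∀ {a b : KX →+ KP}, (∀ E, FlatMod.IsFinLocFree E → a (φX (KRR.cl X E)) = b (φX (KRR.cl X E))) → a = b :=
    fun {a b} h => AddMonoidHom.ext fun k => by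
      obtain ⟨z, rfl⟩ := hX.bijective.2 k
      exact DFunLike.congr_fun (KZ.K0sub_hom_ext (KRR.vbP X) (f := a.comp φX) (g := b.comp φX) h) z
  have hmul : ∀ a b, g (a * b) = g a * g b := fun a b => by
    refine DFunLike.congr_fun (hext (a := g.comp (AddMonoidHom.mulRight b))
      (b := (AddMonoidHom.mulRight (g b)).comp g) fun E hE => ?_) a
    refine DFunLike.congr_fun (hext (a := g.comp (AddMonoidHom.mulLeft (φX (KRR.cl X E))))
      (b := (AddMonoidHom.mulLeft (g (φX (KRR.cl X E)))).comp g) fun F hF => ?_) b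
    show g (φX (KRR.cl X E) * φX (KRR.cl X F)) = g (φX (KRR.cl X E)) * g (φX (KRR.cl X F))
    rw [hX.map_mul E F hE hF, hg E hE, hg F hF, hg _ (KFlatLib.isFinLocFree_tensor hE hF),
      hP.map_mul _ _ (KFlatLib.isFinLocFree_pullback f hE) (KFlatLib.isFinLocFree_pullback f hF)]
    exact congrArg φP (KRRReg.cl_iso (pullTensor f E F)
      (KFlatLib.isFinLocFree_pullback f (KFlatLib.isFinLocFree_tensor hE hF)))
  have hone : g 1 = 1 := by
    rw [← hX.map_one, hg _ (isFinLocFree_structure X), ← hP.map_one]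
    exact congrArg φP (KRRReg.cl_iso (PicClLib.nonempty_pullback_structureModule f).some
      (KFlatLib.isFinLocFree_pullback f (isFinLocFree_structure X)))
  exact ⟨{ g with map_one' := hone, map_mul' := hmul }, hg⟩

set_option maxHeartbeats 4000000 in
/-- `K₀(P)` is free over `K₀(X)` on the powers of the inverse of `O(1)`. -/
theorem bijective_invPowers [CompactSpace X] {E : X.Modules} {q : (Scheme.Modules.pullback π).obj E ⟶ O1}
    (hE : FlatMod.IsFinLocFreeOfRank (r + 1) E) (hP : KRR.IsProjBundle π E O1 q)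
    {KX : Type v} [CommRing KX] {φX : SGA6.Kvb X →+ KX} (hRX : IsRingModel X KX φX)
    {KP : Type w} [CommRing KP] {φP : SGA6.Kvb P →+ KP} (hRP : IsRingModel P KP φP)
    (g : KX →+* KP) (hg : KRR.IsPull π φX φP g.toAddMonoidHom) {w : KP} (hw : w * φP (KRR.cl P O1) = 1) :
    Function.Bijective (fun a : Fin (r + 1) → KX => ∑ i : Fin (r + 1), g (a i) * w ^ (i : ℕ)) := by
  obtain ⟨ι, _, A, hA⟩ := exists_atlas hP hE
  have hL : PicF.IsInvertible O1 := BertiniSec.isInvertible_of_rank_one hP.invertible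
  have hS0 : S π O1 φX 0 = 1 := by
    have h0 : Rg A (CohB1.tensorPow O1 0) := rg_twk hA hL 0
    have hr0 : FlatMod.IsFinLocFreeOfRank 1 ((Scheme.Modules.pushforward π).obj (CohB1.tensorPow O1 0)) := by
      have := rank_push_pow hA (r := r) (π := π) (O1 := O1) 0
      rwa [Nat.choose_zero_right] at this
    have hu : IsUnit (φX (KRR.cl X ((Scheme.Modules.pushforward π).obj (CohB1.tensorPow O1 0)))) :=
      isUnit_of_rank_one hRX (isFinLocFree_push_pb hA h0) (ExtPowSh.rk_eq hr0)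
    haveI := epi_counit_pb hA h0
    haveI := QuotRep.isIso_of_epi_rank (KRRReg.isFinLocFreeOfRank_pullback π hr0)
      (InvEnd.isFinLocFreeOfRank_one (InvX.isInvertible_tensorPow hL 0))
      ((Scheme.Modules.pullbackPushforwardAdjunction π).counit.app (CohB1.tensorPow O1 0))
    let e0 : (Scheme.Modules.pullback π).obj ((Scheme.Modules.pushforward π).obj (CohB1.tensorPow O1 0)) ≅
        CohB1.tensorPow O1 0 := asIso ((Scheme.Modules.pullbackPushforwardAdjunction π).counit.app _)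
    have h := fk_pullback hA hL hRX (isFinLocFree_push_pb hA h0) 0
    have h1 := fk_zero (φX := φX) hA hL (rg_pullback hA hL (isFinLocFree_push_pb hA h0))
    have h2 := congrArg φX (cl_iso ((Scheme.Modules.pushforward π).mapIso e0)
      (isFinLocFree_push_pb hA (rg_pullback hA hL (isFinLocFree_push_pb hA h0))))
    rw [h1, h2] at h
    exact hu.mul_left_cancel (h.symm.trans (mul_one _).symm)
  have hu : IsUnit (tc π O1 φX O1 r) := by
    have hvb := fun l => isFinLocFree_push_pb hA (rg_GsP hA hL (rg_O1 hA hL) l)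
    refine isUnit_of_rank_one hRX (hvb r) fun x => ?_
    obtain ⟨ε, hε⟩ := exists_rankRingHom hRX x
    have h := last_coeff r (fun m => ε (tc π O1 φX O1 m)) (fun k => ε (S π O1 φX k))
      (fun k hk => by rw [S, if_pos hk, map_zero])
      (fun k => by
        rw [S, if_neg (by omega), Int.toNat_natCast, hε _ (ExtPowSh.flf_of_rank (rank_push_pow hA k)),
          ExtPowSh.rk_eq (rank_push_pow hA k), Nat.choose_symm_add])
      fun n hn => by
        rw [S_succ hA hL hRX hS0 n hn, map_sum]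
        simp
    rw [tc, hε _ (hvb r)] at h
    exact_mod_cast h
  refine ⟨fun a a' h => ?_, fun x => ?_⟩
  · have key := injective_powers hA hL hRX hRP hg hu
    suffices (fun i : Fin (r + 1) => a i.rev) = fun i => a' i.rev from funext fun i => by
      simpa using congrFun this i.rev
    refine key ?_
    have hpow : ∀ c : Fin (r + 1) → KX, ∑ i : Fin (r + 1), g.toAddMonoidHom (c i.rev) * φP (KRR.cl P O1) ^ (i : ℕ) =
        φP (KRR.cl P O1) ^ r * ∑ i : Fin (r + 1), g (c i) * w ^ (i : ℕ) := fun c => by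
      rw [Finset.mul_sum, ← Equiv.sum_comp Fin.revPerm]
      refine Finset.sum_congr rfl fun i _ => ?_
      show g (c i.rev.rev) * _ ^ ((i.rev : Fin (r + 1)) : ℕ) = _
      have hi := i.isLt
      rw [Fin.rev_rev, Fin.val_rev, show r + 1 - ((i : ℕ) + 1) = r - i by omega]
      set l := φP (KRR.cl P O1)
      calc g (c i) * l ^ (r - (i : ℕ)) = g (c i) * l ^ (r - (i : ℕ)) * (w * l) ^ (i : ℕ) := by
            rw [hw, one_pow, mul_one]
        _ = g (c i) * (l ^ (r - (i : ℕ)) * l ^ (i : ℕ)) * w ^ (i : ℕ) := by ring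
        _ = _ := by rw [← pow_add, Nat.sub_add_cancel (by omega)]; ring
    exact (hpow a).trans ((congrArg _ h).trans (hpow a').symm)
  · obtain ⟨a, ha⟩ := mem_span_powers hA hL hRP g hg hw hu x
    exact ⟨a, ha.symm⟩

theorem isEmpty_of_rank_zero {E : X.Modules} {q : (Scheme.Modules.pullback π).obj E ⟶ O1}
    (hP : KRR.IsProjBundle π E O1 q) (hE : FlatMod.IsFinLocFreeOfRank 0 E) : IsEmpty P := by
  refine ⟨fun x => ?_⟩
  haveI := hP.epi
  have hz := IsZero.of_epi q (ExtPowSh.isZero_of_rank_zero (KRRReg.isFinLocFreeOfRank_pullback π hE))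
  have h0 : FlatMod.IsFinLocFreeOfRank 0 O1 :=
    (ConsPropLib.isFinLocFreeOfRank_iso (hz.iso (ExtPowSh.isZero_of_rank_zero (KRRReg.isFinLocFreeOfRank_pullback π hE)))).2
      (KRRReg.isFinLocFreeOfRank_pullback π hE)
  exact Nat.one_ne_zero ((ExtPowSh.rk_eq hP.invertible x).symm.trans (ExtPowSh.rk_eq h0 x))

theorem eq_zero_of_isEmpty [IsEmpty P] (z : SGA6.Kvb P) : z = 0 :=
  DFunLike.congr_fun (KZ.K0sub_hom_ext (KRR.vbP P) (f := AddMonoidHom.id _) (g := 0) fun F _ =>
    KZ.clSub_isZero (KRR.vbP P) (ExtPowSh.isZero_of_rank_zero (M := F) fun x => isEmptyElim x)) z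

end Groth.Agent.H6KB
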