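import Groth.Agent.H6KB.Local
import Groth.Agent.H6KP.Free
import Groth.Agent.KRRReg.PushTw
import Groth.Agent.GGTriv.Basic

/-!
# Regular bundles on a projective bundle

Follows `KPB.Reg`, over an arbitrary base.
-/

set_option autoImplicit false
set_option linter.style.haveILetI false
set_option linter.unusedSectionVars false
set_option backward.isDefEq.respectTransparency false
set_option backward.isDefEq.respectTransparency.types false
set_option maxHeartbeats 1000000

universe u

open CategoryTheory CategoryTheory.Limits AlgebraicGeometry TopologicalSpace Opposite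

attribute [-instance] CategoryTheory.catToReflQuiver

noncomputable section

namespace Groth.Agent.H6KB

open Groth.Agent Groth.Agent.H23.PicMul KRRReg

/-- Rank is checked on an open cover. -/
theorem isFinLocFreeOfRank_of_cover {X : Scheme.{u}} {J : Type*} {Z : J → Scheme.{u}} (j : ∀ i, Z i ⟶ X)
    [∀ i, IsOpenImmersion (j i)] (hc : ∀ x, ∃ i, x ∈ Set.range (j i)) {M : X.Modules} {n : ℕ}
    (h : ∀ i, FlatMod.IsFinLocFreeOfRank n ((Scheme.Modules.pullback (j i)).obj M)) :
    FlatMod.IsFinLocFreeOfRank n M := fun x => by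
  obtain ⟨i, z, rfl⟩ := hc x
  obtain ⟨U, hz, ⟨e⟩⟩ := h i z
  let q : ((j i ''ᵁ U : X.Opens) : Scheme.{u}) ⟶ U := ((j i).isoImage U).inv
  have hq : q ≫ U.ι ≫ j i = (j i ''ᵁ U).ι := by simp [q]
  exact ⟨j i ''ᵁ U, ⟨z, hz, rfl⟩,
    ⟨(Scheme.Modules.restrictFunctorIsoPullback _).app M ≪≫ (Scheme.Modules.pullbackCongr hq.symm).app M ≪≫
      ((Scheme.Modules.pullbackComp q _).app M).symm ≪≫
      (Scheme.Modules.pullback q).mapIso (((Scheme.Modules.pullbackComp U.ι (j i)).app M).symm ≪≫
        ((Scheme.Modules.restrictFunctorIsoPullback U.ι).app _).symm ≪≫ e) ≪≫ KFlatLib.pullFreeIso q n⟩⟩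

variable {X P : Scheme.{u}} {π : P ⟶ X} {O1 : P.Modules} {r : ℕ}

theorem syz_iso {n : ℕ} {T : Scheme.{u}} {F G : (KRR.PY n T).Modules} (e : F ≅ G) :
    Nonempty (syz F ≅ syz G) :=
  ⟨kernel.mapIso _ _ ((Scheme.Modules.pullback (KRR.pr n T)).mapIso
    ((Scheme.Modules.pushforward (KRR.pr n T)).mapIso e)) e
    ((Scheme.Modules.pullbackPushforwardAdjunction (KRR.pr n T)).counit.naturality e.hom).symm⟩

/-- The twists by powers of `O(1)`. -/
abbrev twk (O1 : P.Modules) (F : P.Modules) (k : ℕ) : P.Modules :=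
  CohB1.tensorMod F (CohB1.tensorPow O1 k)

/-- The kernel of the counit of the projection. -/
abbrev syzP (π : P ⟶ X) (F : P.Modules) : P.Modules :=
  kernel ((Scheme.Modules.pullbackPushforwardAdjunction π).counit.app F)

theorem Triv.tensor_iso (c : Triv π O1 r) (F : P.Modules) :
    Nonempty ((Scheme.Modules.pullback c.f).obj (CohB1.tensorMod F O1) ≅
      KRR.twF r c.V.toScheme 1 ((Scheme.Modules.pullback c.f).obj F)) := by
  refine cl_eq_iff.1 ?_
  show PicF.pullCl c.f (PicF.cl (CohB1.tensorMod F O1)) = _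
  rw [cl_tensor, pullCl_mul, cl_twF, mul_comm]
  exact congrArg (· * _) (cl_eq_iff.2 c.triv)

theorem Triv.twk_iso (c : Triv π O1 r) (F : P.Modules) (k : ℕ) :
    Nonempty ((Scheme.Modules.pullback c.f).obj (twk O1 F k) ≅
      KRR.twF r c.V.toScheme (k : ℤ) ((Scheme.Modules.pullback c.f).obj F)) := by
  refine cl_eq_iff.1 ?_
  show PicF.pullCl c.f (PicF.cl (twk O1 F k)) = _
  rw [cl_tensor, pullCl_mul, cl_twF, mul_comm, cl_tensorPow, pullCl_pow]
  exact congrArg (· * _) ((congrArg (· ^ k) (cl_eq_iff.2 c.triv)).trans (cl_O_pow _ k).symm)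

variable {ι : Type*} (A : ι → Triv π O1 r)

/-- Bundles regular on each chart. -/
def Rg (F : P.Modules) : Prop :=
  FlatMod.IsFinLocFree F ∧
    ∀ i, KRR.IsRegSheaf r (A i).V.toScheme ((Scheme.Modules.pullback (A i).f).obj F)

variable {A}

theorem rg_iso {F G : P.Modules} (e : F ≅ G) (h : Rg A F) : Rg A G :=
  ⟨isFinLocFree_iso e h.1, fun i => isRegSheaf_of_iso r _ ((Scheme.Modules.pullback (A i).f).mapIso e) (h.2 i)⟩

variable (hA : ∀ x : X, ∃ i, x ∈ (A i).V)

include hA

theorem cover_base (x : X) : ∃ i, x ∈ Set.range (A i).V.ι := by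
  obtain ⟨i, hi⟩ := hA x
  exact ⟨i, ⟨x, hi⟩, rfl⟩

theorem cover_top (y : P) : ∃ i, y ∈ Set.range (A i).f := by
  obtain ⟨i, hi⟩ := hA (π y)
  exact ⟨i, (A i).le_range hi⟩

theorem rg_twk (hL : PicF.IsInvertible O1) (k : ℕ) : Rg A (CohB1.tensorPow O1 k) := by
  refine ⟨KRRReg.isFinLocFree_tensorPow hL k, fun i => ?_⟩
  refine isRegSheaf_of_iso r _ (cl_eq_iff.1 ?_).some (isRegSheaf_twF_structure (n := r) (A i).V.toScheme k)
  show _ = PicF.pullCl (A i).f (PicF.cl (CohB1.tensorPow O1 k))
  rw [cl_tensorPow, pullCl_pow, cl_twF]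
  refine Eq.trans ?_ ((congrArg (· ^ k) (cl_eq_iff.2 (A i).triv)).trans (cl_O_pow _ k).symm).symm
  exact mul_one _

theorem rg_tensor {F : P.Modules} (hL : PicF.IsInvertible O1) (hF : Rg A F) (k : ℕ) : Rg A (twk O1 F k) :=
  ⟨KFlatLib.isFinLocFree_tensor hF.1 (KRRReg.isFinLocFree_tensorPow hL k), fun i =>
    isRegSheaf_of_iso r _ ((A i).twk_iso F k).some.symm
      (isRegSheaf_twF (QCoh.isQCoh_of_isFinLocFree (KFlatLib.isFinLocFree_pullback _ hF.1)) (hF.2 i) k)⟩

theorem epi_counit_pb {F : P.Modules} (hF : Rg A F) :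
    Epi ((Scheme.Modules.pullbackPushforwardAdjunction π).counit.app F) := by
  refine Preadditive.epi_of_cokernel_zero ((isZero_of_pullback (fun i => (A i).f) (cover_top hA)
    fun i => ?_).eq_of_tgt _ _)
  haveI := epi_counit (QCoh.isQCoh_of_isFinLocFree (KFlatLib.isFinLocFree_pullback (A i).f hF.1)) (hF.2 i)
  haveI : Epi ((Scheme.Modules.pullback (A i).f).map
      ((Scheme.Modules.pullbackPushforwardAdjunction π).counit.app F)) := by
    rw [(A i).pullback_counit]
    infer_instance
  exact (isZero_cokernel_of_epi _).of_iso (PreservesCokernel.iso (Scheme.Modules.pullback (A i).f) _)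

theorem shortExact_syzP {F : P.Modules} (hF : Rg A F) :
    (ShortComplex.mk (kernel.ι ((Scheme.Modules.pullbackPushforwardAdjunction π).counit.app F))
      ((Scheme.Modules.pullbackPushforwardAdjunction π).counit.app F) (kernel.condition _)).ShortExact :=
  { exact := ShortComplex.exact_kernel _
    mono_f := inferInstance
    epi_g := epi_counit_pb hA hF }

theorem isFinLocFree_push_pb {F : P.Modules} (hF : Rg A F) :
    FlatMod.IsFinLocFree ((Scheme.Modules.pushforward π).obj F) :=
  isFinLocFree_of_pullback (fun i => (A i).V.ι) (cover_base hA) fun i => by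
    have h := KFlatLib.isFinLocFree_pullback (A i).f hF.1
    exact isFinLocFree_iso ((A i).pushIso F).symm
      (H6KP.vb_push h fun q hq => isZero_RpushAb_of_reg (QCoh.isQCoh_of_isFinLocFree h) (hF.2 i) q hq)

theorem shortExact_push_pb {S : ShortComplex P.Modules} (hS : S.ShortExact) (h₁ : Rg A S.X₁)
    (h₂ : Rg A S.X₂) (h₃ : Rg A S.X₃) : (S.map (Scheme.Modules.pushforward π)).ShortExact := by
  haveI := hS.mono_f
  haveI : Mono ((Scheme.Modules.pushforward π).map S.f) := inferInstance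
  haveI : Epi ((Scheme.Modules.pushforward π).map S.g) := by
    refine Preadditive.epi_of_cokernel_zero ((isZero_of_pullback (fun i => (A i).V.ι) (cover_base hA)
      fun i => ?_).eq_of_tgt _ _)
    have hj : (S.map (Scheme.Modules.pullback (A i).f)).ShortExact := (A i).shortExact_res hS
    have h := (H6KP.shortExact_push hj (QCoh.isQCoh_of_isFinLocFree (KFlatLib.isFinLocFree_pullback _ h₁.1))
      (isZero_RpushAb_of_reg (QCoh.isQCoh_of_isFinLocFree (KFlatLib.isFinLocFree_pullback _ h₁.1)) (h₁.2 i) 1 le_rfl)).epi_g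
    haveI : Epi ((Scheme.Modules.pushforward (KRR.pr r (A i).V.toScheme)).map
      ((Scheme.Modules.pullback (A i).f).map S.g)) := h
    haveI : Epi ((Scheme.Modules.pullback (A i).V.ι).map ((Scheme.Modules.pushforward π).map S.g)) := by
      haveI : Epi ((Scheme.Modules.pullback (A i).V.ι).map ((Scheme.Modules.pushforward π).map S.g) ≫ (A i).β S.X₃) := by
        rw [(A i).β_natural]
        infer_instance
      rw [← Category.comp_id ((Scheme.Modules.pullback (A i).V.ι).map ((Scheme.Modules.pushforward π).map S.g)),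
        ← IsIso.hom_inv_id ((A i).β S.X₃), ← Category.assoc]
      infer_instance
    exact (isZero_cokernel_of_epi _).of_iso (PreservesCokernel.iso (Scheme.Modules.pullback (A i).V.ι) _)
  haveI : PreservesFiniteLimits (Scheme.Modules.pushforward π) := QCoh.preservesFiniteLimits_push _
  exact ShortComplex.ShortExact.mk' (hS.exact.map_of_mono_of_preservesKernel _ inferInstance inferInstance) ‹_› ‹_›

theorem isFinLocFree_syzP {F : P.Modules} (hF : Rg A F) : FlatMod.IsFinLocFree (syzP π F) :=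
  H6KP.vb_X₁ (shortExact_syzP hA hF) (KFlatLib.isFinLocFree_pullback _ (isFinLocFree_push_pb hA hF)) hF.1

theorem rg_syzP (hL : PicF.IsInvertible O1) {F : P.Modules} (hF : Rg A F) :
    Rg A (CohB1.tensorMod (syzP π F) O1) := by
  refine ⟨KFlatLib.isFinLocFree_tensor (isFinLocFree_syzP hA hF)
    (H23.PullPush.isFinLocFree_of_isInvertible hL), fun i => ?_⟩
  have hq := QCoh.isQCoh_of_isFinLocFree (KFlatLib.isFinLocFree_pullback (A i).f hF.1)
  exact isRegSheaf_of_iso r _ (((A i).tensor_iso _).some ≪≫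
    (DCoh.tensorBi.obj (Twist.twistOver r (A i).V.toScheme 1)).mapIso ((A i).syzIso F)).symm
    (isRegSheaf_syz hq (hF.2 i))

omit hA in
/-- The iterated syzygies. -/
def GsP (π : P ⟶ X) (O1 : P.Modules) (F : P.Modules) : ℕ → P.Modules
  | 0 => F
  | k + 1 => CohB1.tensorMod (syzP π (GsP π O1 F k)) O1

theorem rg_GsP (hL : PicF.IsInvertible O1) {F : P.Modules} (hF : Rg A F) : ∀ k, Rg A (GsP π O1 F k)
  | 0 => hF
  | k + 1 => rg_syzP hA hL (rg_GsP hL hF k)

theorem isZero_syzP_last (hL : PicF.IsInvertible O1) {F : P.Modules} (hF : Rg A F) :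
    IsZero (syzP π (GsP π O1 F r)) := by
  refine isZero_of_pullback (fun i => (A i).f) (cover_top hA) fun i => ?_
  have key : ∀ k, Nonempty ((Scheme.Modules.pullback (A i).f).obj (GsP π O1 F k) ≅
      Gs ((Scheme.Modules.pullback (A i).f).obj F) k) := by
    intro k
    induction k with
    | zero => exact ⟨Iso.refl _⟩
    | succ k ih =>
      exact ⟨((A i).tensor_iso _).some ≪≫ (DCoh.tensorBi.obj (Twist.twistOver r (A i).V.toScheme 1)).mapIso
        ((A i).syzIso _ ≪≫ (syz_iso ih.some).some)⟩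
  exact (isZero_syz_last (QCoh.isQCoh_of_isFinLocFree (KFlatLib.isFinLocFree_pullback (A i).f hF.1)) (hF.2 i)).of_iso
    ((A i).syzIso _ ≪≫ (syz_iso (key r).some).some)

theorem exists_rg_bound [Finite ι] (hL : PicF.IsInvertible O1) {F : P.Modules} (hF : FlatMod.IsFinLocFree F) :
    ∃ m : ℕ, ∀ k, m ≤ k → Rg A (twk O1 F k) := by
  classical
  cases nonempty_fintype ι
  have h : ∀ i, ∃ m : ℕ, ∀ k : ℕ, m ≤ k →
      KRR.IsRegSheaf r (A i).V.toScheme ((Scheme.Modules.pullback (A i).f).obj (twk O1 F k)) := fun i => by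
    haveI := (A i).compactSpace
    obtain ⟨m, hm⟩ := H6KP.exists_regular (r := r) (KFlatLib.isFinLocFree_pullback (A i).f hF)
    exact ⟨m, fun k hk => isRegSheaf_of_iso r _ ((A i).twk_iso F k).some.symm (hm k hk)⟩
  choose m hm using h
  exact ⟨Finset.univ.sup m, fun k hk => ⟨KFlatLib.isFinLocFree_tensor hF (KRRReg.isFinLocFree_tensorPow hL k),
    fun i => hm i k ((Finset.le_sup (Finset.mem_univ i)).trans hk)⟩⟩

theorem rank_push_pow (k : ℕ) :
    FlatMod.IsFinLocFreeOfRank (Nat.choose (r + k) k)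
      ((Scheme.Modules.pushforward π).obj (CohB1.tensorPow O1 k)) :=
  isFinLocFreeOfRank_of_cover (fun i => (A i).V.ι) (cover_base hA) fun i => by
    obtain ⟨e⟩ := H6KP.push_free r (A i).V.toScheme k
    have hc : Nonempty ((Scheme.Modules.pullback (A i).f).obj (CohB1.tensorPow O1 k) ≅
        KRR.twF r (A i).V.toScheme (k : ℤ) (Coh.structureModule _)) := by
      refine cl_eq_iff.1 ?_
      show PicF.pullCl (A i).f (PicF.cl (CohB1.tensorPow O1 k)) = _
      rw [cl_tensorPow, pullCl_pow, cl_twF]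
      refine ((congrArg (· ^ k) (cl_eq_iff.2 (A i).triv)).trans (cl_O_pow _ k).symm).trans ?_
      exact (mul_one _).symm
    exact (ConsPropLib.isFinLocFreeOfRank_iso
      ((A i).pushIso _ ≪≫ (Scheme.Modules.pushforward _).mapIso hc.some ≪≫ e)).2
      (GGTriv.isFinLocFreeOfRank_freeMod _)

omit hA in
set_option maxHeartbeats 4000000 in
theorem push_tensor_iso {G : P.Modules} {T : X.Modules} (hT : FlatMod.IsFinLocFree T) :
    Nonempty ((Scheme.Modules.pushforward π).obj (CohB1.tensorMod ((Scheme.Modules.pullback π).obj T) G) ≅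
      CohB1.tensorMod T ((Scheme.Modules.pushforward π).obj G)) := by
  haveI := SpObjSS.enoughInjectives_of_hasInjectiveResolutions (C := P.Modules)
  haveI := QCoh.preservesFiniteLimits_push π
  obtain ⟨c⟩ := KFlatLib.nonempty_rpush_tensor_finLocFree π G T hT 0
  let e := (Scheme.Modules.pushforward π).rightDerivedZeroIsoSelf
  exact ⟨(e.app _).symm ≪≫ c.symm ≪≫ (DCoh.tensorBi.obj T).mapIso (e.app G)⟩

end Groth.Agent.H6KB
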