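import Groth.Agent.H6KB.Reg
import Groth.Agent.CohBasic.RpushAbZero
import Groth.Agent.QCoh.RpushAbGod
import Groth.Agent.H6Proj.Acyclic

/-!
# Higher direct images of the twists on a projective bundle
-/

set_option autoImplicit false
set_option linter.style.haveILetI false
set_option linter.unusedSectionVars false
set_option backward.isDefEq.respectTransparency false
set_option backward.isDefEq.respectTransparency.types false
set_option maxHeartbeats 1000000

universe u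

open CategoryTheory CategoryTheory.Limits AlgebraicGeometry TopologicalSpace Opposite

attribute [-instance] CategoryTheory.catToReflQuiver

noncomputable section

namespace Groth.Agent.H6KB

open Groth.Agent Groth.Agent.H23.PicMul KRRReg

variable {Y P : Scheme.{u}} {π : P ⟶ Y} {O1 : P.Modules} {r : ℕ}

theorem Triv.preimage_eq_opensRange (τ : Triv π O1 r) : τ.f.opensRange = π ⁻¹ᵁ τ.V := by
  refine le_antisymm ?_ τ.le_range
  rintro _ ⟨z, rfl⟩
  show π (τ.f z) ∈ τ.V
  rw [← Scheme.Hom.comp_apply, τ.sq.w, Scheme.Hom.comp_apply]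
  exact (KRR.pr r τ.V.toScheme z).2

theorem isProper_of_hasTriv (hc : HasTriv π O1 r) : IsProper π := by
  choose τ hτ using hc
  refine IsZariskiLocalAtTarget.of_iSup_eq_top (P := @IsProper) (fun y => (τ y).V)
    (eq_top_iff.2 fun y _ => Opens.mem_iSup.2 ⟨y, hτ y⟩) fun y => ?_
  let e := (τ y).sq.flip.isoIsPullback _ _ (isPullback_morphismRestrict π (τ y).V)
  have h : e.inv ≫ KRR.pr r (τ y).V.toScheme = π ∣_ (τ y).V := IsPullback.isoIsPullback_inv_fst ..
  rw [← h, MorphismProperty.cancel_left_of_respectsIso (P := @IsProper)]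
  exact KRRReg.isProper_pr

theorem cl_res_neg (τ : Triv π O1 r) {L : P.Modules} (hL : ClSub.IsInverseOf L O1) (m : ℕ) :
    PicF.pullCl τ.f (PicF.cl (CohB1.tensorPow L m)) = PicF.cl (O (gfst r τ.V.toScheme) (-(m : ℤ))) := by
  rw [cl_tensorPow, pullCl_pow]
  have hm : PicF.pullCl τ.f (PicF.cl L) = PicF.cl (O (gfst r τ.V.toScheme) (-1)) := by
    refine left_inv_eq_right_inv (a := PicF.cl (O (gfst r τ.V.toScheme) 1)) ?_ ?_
    · rw [← show PicF.pullCl τ.f (PicF.cl O1) = PicF.cl (O (gfst r τ.V.toScheme) 1) from cl_eq_iff.2 τ.triv,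
        ← pullCl_mul, show PicF.cl L * PicF.cl O1 = 1 from cl_eq_iff.2 hL, pullCl_one]
    · rw [← KRRReg.cl_O_add, show (1 : ℤ) + -1 = 0 from rfl, KRRReg.cl_O_zero]
  rw [hm]
  induction m with
  | zero => rw [pow_zero]; exact (KRRReg.cl_O_zero _).symm
  | succ m ih => rw [pow_succ, ih, ← KRRReg.cl_O_add, show -(m : ℤ) + -1 = -((m + 1 : ℕ) : ℤ) by omega]

theorem cl_res_pos (τ : Triv π O1 r) (m : ℕ) :
    PicF.pullCl τ.f (PicF.cl (CohB1.tensorPow O1 m)) = PicF.cl (O (gfst r τ.V.toScheme) (m : ℤ)) := by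
  rw [cl_tensorPow, pullCl_pow]
  exact (congrArg (· ^ m) (cl_eq_iff.2 τ.triv)).trans (cl_O_pow _ m).symm

/-- The cohomology of a twist over a chart. -/
theorem subsingleton_HH_chart (τ : Triv π O1 r) {F : P.Modules} (hF : Coh.IsQCoh F) (d : ℤ)
    (hd : PicF.pullCl τ.f (PicF.cl F) = PicF.cl (O (gfst r τ.V.toScheme) d)) (q : ℕ)
    (hq : ¬ ((q = 0 ∧ 0 ≤ d) ∨ (q = r ∧ d ≤ -((r : ℤ) + 1)))) :
    Subsingleton (Coh.HH ((π ⁻¹ᵁ τ.V : P.Opens) : Scheme.{u}) (F.restrict (π ⁻¹ᵁ τ.V).ι) q) := by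
  refine (H6Proj.subsingleton_HH_restrict_iff τ.f _ τ.preimage_eq_opensRange hF q).2 ?_
  obtain ⟨s⟩ := PicClLib.nonempty_pullback_structureModule (KRR.pr r τ.V.toScheme)
  haveI : IsAffine τ.V.toScheme := τ.aff
  let V : τ.V.toScheme.affineOpens := ⟨⊤, isAffineOpen_top _⟩
  have hS := QCoh.isQCoh_of_isFinLocFree (KRRReg.isFinLocFree_structure τ.V.toScheme)
  have h := KRRReg.HH_UV_pullback (n := r) hS V d q hq
  obtain ⟨e⟩ : Nonempty (τ.res.obj F ≅ KRR.twF r τ.V.toScheme d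
      ((Scheme.Modules.pullback (KRR.pr r τ.V.toScheme)).obj (Coh.structureModule τ.V.toScheme))) := by
    refine cl_eq_iff.1 ?_
    rw [KRRReg.cl_twF, cl_eq_iff.2 ⟨s⟩]
    exact hd.trans (mul_one _).symm
  have hU : UV r V.1 = (⊤ : (KRR.PY r τ.V.toScheme).Opens) := rfl
  have h2 := QCoh.subsingleton_HH_of_iso ((Scheme.Modules.restrictFunctor (UV r V.1).ι).mapIso e.symm) q
    (QCoh.subsingleton_HH_of_iso (KRRReg.twF_restrict_iso _ V.1 d).some.symm q h)
  exact (H6Proj.subsingleton_HH_restrict_iff (𝟙 _) (UV r V.1) ((Scheme.Hom.opensRange_of_isIso (𝟙 _)).trans hU.symm)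
    (τ.res_qcoh hF) q).1 h2 |> QCoh.subsingleton_HH_of_iso ((Scheme.Modules.pullbackId _).app _) q

end Groth.Agent.H6KB
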